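import Cfsg.Agent.H817.DPi.Def
import Cfsg.Agent.Cit.TypeDet.Mathieu
import Cfsg.Agent.SporadicA.MathieuRecog
import Cfsg.Agent.S0243

/-!
# S4247 [DS]: `Dom π` for `PSL_3(2)`, `PSL_5(2)`, `M11`, `M23` (helper191)

* `dom_two` : if all `π`-subgroups have order dividing `s * r`, `s < r` primes, then a Hall `π`-subgroup contains a
  conjugate of every `π`-subgroup;
* `dom_small`.
-/

set_option autoImplicit false

namespace Cfsg.Agent.H191.DPi

open Subgroup Cfsg Cfsg.Agent.H988.CPi Cfsg.Agent.H571.RV Cfsg.Agent.H571.DExt Cfsg.Agent.H817.DPi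
open scoped Pointwise

universe u

variable {π : Set ℕ} {X : Type u} [Group X] [Finite X]

/-- subgroups of prime order `q`, `q ^ 2` not dividing the order of the group, are conjugate -/
theorem conj_prime {q : ℕ} (hq : q.Prime) (h : ¬ q ^ 2 ∣ Nat.card X) {A B : Subgroup X} (hA : Nat.card A = q)
    (hB : Nat.card B = q) : ∃ g : X, A = MulAut.conj g • B := by
  have := Fact.mk hq
  have hf : (Nat.card X).factorization q = 1 := by
    have h1 : q ∣ Nat.card X := hA ▸ card_subgroup_dvd_card A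
    have h2 := (hq.dvd_iff_one_le_factorization Nat.card_pos.ne').1 h1
    have h3 : ¬ 2 ≤ (Nat.card X).factorization q := fun h4 =>
      h ((hq.pow_dvd_iff_le_factorization Nat.card_pos.ne').2 h4)
    omega
  let P : Sylow q X := Sylow.ofCard A (by rw [hA, hf, pow_one])
  let Q : Sylow q X := Sylow.ofCard B (by rw [hB, hf, pow_one])
  obtain ⟨g, hg⟩ := MulAction.exists_smul_eq X Q P
  exact ⟨g, (congrArg (fun T : Sylow q X => (T : Subgroup X)) hg).symm⟩

/-- a group of order `s * r`, `s < r`, has a normal subgroup of order `r` -/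
theorem exists_norm {s r : ℕ} (hs : s.Prime) (hr : r.Prime) (hsr : s < r) {K : Subgroup X}
    (hK : Nat.card K = s * r) : ∃ R S : Subgroup X, Nat.card R = r ∧ Nat.card S = s ∧ R ≤ K ∧ S ≤ K ∧
      K ≤ normalizer (R : Set X) := by
  have := Fact.mk hr
  have := Fact.mk hs
  have hr2 : (Nat.card K).factorization r = 1 := by
    rw [hK, Nat.factorization_mul hs.ne_zero hr.ne_zero, Finsupp.add_apply, hr.factorization_self,
      Nat.factorization_eq_zero_of_not_dvd (fun h => hsr.ne' ((Nat.prime_dvd_prime_iff_eq hr hs).1 h))]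
  let P : Sylow r K := default
  have hP : Nat.card P = r := by
    rw [P.card_eq_multiplicity, hr2, pow_one]
  have hPi : (P : Subgroup K).index = s := by
    have h1 := (P : Subgroup K).card_mul_index
    rw [hK] at h1
    have h2 : Nat.card (P : Subgroup K) = r := hP
    rw [h2, mul_comm] at h1
    exact Nat.eq_of_mul_eq_mul_right hr.pos h1
  have h1 : Nat.card (Sylow r K) ∣ s := hPi ▸ P.card_dvd_index
  have h2 : Nat.card (Sylow r K) ≡ 1 [MOD r] := card_sylow_modEq_one r K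
  have h3 : Nat.card (Sylow r K) = 1 := by
    rcases (Nat.dvd_prime hs).1 h1 with h | h
    · exact h
    · rw [h] at h2
      have h4 := Nat.ModEq.eq_of_lt_of_lt h2 hsr (hs.one_lt.trans hsr)
      exact absurd h4 hs.one_lt.ne'
  have hn : (P : Subgroup K).Normal := by
    have : Subsingleton (Sylow r K) := (Nat.card_eq_one_iff_unique.1 h3).1
    exact Sylow.normal_of_subsingleton P
  obtain ⟨x, hx⟩ := exists_prime_orderOf_dvd_card' (G := K) s (hK ▸ dvd_mul_right s r)
  refine ⟨(P : Subgroup K).map K.subtype, zpowers (x : X), ?_, ?_, map_subtype_le _, ?_, ?_⟩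
  · rw [card_map_of_injective K.subtype_injective]
    exact hP
  · rw [Nat.card_zpowers, Subgroup.orderOf_coe, hx]
  · rw [zpowers_le]
    exact x.2
  · intro k hk
    rw [mem_normalizer_iff]
    have key : ∀ k ∈ K, ∀ g ∈ (P : Subgroup K).map K.subtype, k * g * k⁻¹ ∈ (P : Subgroup K).map K.subtype := by
      rintro k hk _ ⟨g, hg, rfl⟩
      exact ⟨⟨k, hk⟩ * g * ⟨k, hk⟩⁻¹, hn.conj_mem g hg ⟨k, hk⟩, rfl⟩
    refine fun g => ⟨key k hk g, fun hg => ?_⟩
    have h5 := key k⁻¹ (inv_mem hk) _ hg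
    have e : k⁻¹ * (k * g * k⁻¹) * k⁻¹⁻¹ = g := by group
    rwa [e] at h5

theorem smul_card (g : X) (K : Subgroup X) : Nat.card ↥(MulAut.conj g • K) = Nat.card K := by
  rw [← conj_eq]
  exact card_map_of_injective (MulAut.conj g).injective

theorem eq_sup {s r : ℕ} (hs : s.Prime) (hr : r.Prime) (hsr : s ≠ r) {K R S : Subgroup X} (hK : Nat.card K = s * r)
    (hR : Nat.card R = r) (hS : Nat.card S = s) (hRK : R ≤ K) (hSK : S ≤ K) : K = R ⊔ S := by
  symm
  apply Subgroup.eq_of_le_of_card_ge (sup_le hRK hSK)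
  rw [hK]
  apply Nat.le_of_dvd Nat.card_pos
  refine Nat.Coprime.mul_dvd_of_dvd_of_dvd ((Nat.coprime_primes hs hr).2 hsr) ?_ ?_
  · exact hS ▸ card_dvd_of_le le_sup_right
  · exact hR ▸ card_dvd_of_le le_sup_left

/-- **Two primes.** -/
theorem dom_two {s r : ℕ} (hs : s.Prime) (hr : r.Prime) (hsr : s < r)
    (hX : ∀ K : Subgroup X, PiN π (Nat.card K) → Nat.card K ∣ s * r) {H : Subgroup X} (hH : IsPiHall π H) :
    Dom π X := by
  refine ⟨H, hH, fun K hK => ?_⟩
  have hKH : Nat.card K ∣ Nat.card H := by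
    have h1 : Nat.card K ∣ Nat.card H * H.index := by
      rw [card_mul_index]
      exact card_subgroup_dvd_card K
    exact (hK.coprime hH.2).dvd_of_dvd_mul_right h1
  -- the primes in `π`
  have hsq : ∀ q : ℕ, q.Prime → q ∈ π → ¬ q ^ 2 ∣ Nat.card X := by
    intro q hq hqπ h
    have := Fact.mk hq
    obtain ⟨Q, hQ⟩ := Sylow.exists_subgroup_card_pow_prime q h
    have h1 : q ^ 2 ∣ s * r := by
      rw [← hQ]
      refine hX Q fun l hl hd => ?_
      rw [hQ] at hd
      rwa [(Nat.prime_dvd_prime_iff_eq hl hq).1 (hl.dvd_of_dvd_pow hd)]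
    have h2 : q ∣ s * r := (dvd_pow_self q (by norm_num)).trans h1
    rcases hq.dvd_mul.1 h2 with h3 | h3
    · have h4 := (Nat.prime_dvd_prime_iff_eq hq hs).1 h3
      subst h4
      rw [pow_two] at h1
      have h5 := Nat.dvd_of_mul_dvd_mul_left hq.pos h1
      exact hsr.ne ((Nat.prime_dvd_prime_iff_eq hq hr).1 h5)
    · have h4 := (Nat.prime_dvd_prime_iff_eq hq hr).1 h3
      subst h4
      rw [pow_two, mul_comm s] at h1
      have h5 := Nat.dvd_of_mul_dvd_mul_left hq.pos h1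
      exact hsr.ne' ((Nat.prime_dvd_prime_iff_eq hq hs).1 h5)
  -- prime order
  have hprime : ∀ q : ℕ, q.Prime → Nat.card K = q → ∃ g : X, K ≤ MulAut.conj g • H := by
    intro q hq hKq
    have := Fact.mk hq
    obtain ⟨x, hx⟩ := exists_prime_orderOf_dvd_card' (G := H) q (hKq ▸ hKH)
    have hqπ : q ∈ π := hK q hq (by rw [hKq])
    obtain ⟨g, hg⟩ := conj_prime hq (hsq q hq hqπ) hKq
      (B := zpowers (x : X)) (by rw [Nat.card_zpowers, Subgroup.orderOf_coe, hx])
    refine ⟨g, ?_⟩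
    rw [hg]
    exact pointwise_smul_le_pointwise_smul_iff.2 (by rw [zpowers_le]; exact x.2)
  by_cases h1 : Nat.card K = 1
  · exact ⟨1, by rw [(card_eq_one.1 h1)]; exact bot_le⟩
  by_cases h2 : Nat.card K = s
  · exact hprime s hs h2
  by_cases h3 : Nat.card K = r
  · exact hprime r hr h3
  have h4 : Nat.card K = s * r := by
    obtain ⟨a, b, ha, hb, hab⟩ := (Nat.dvd_mul).1 (hX K hK)
    rcases (Nat.dvd_prime hs).1 ha with rfl | rfl <;> rcases (Nat.dvd_prime hr).1 hb with rfl | rfl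
    · exact absurd (by rw [← hab]) h1
    · exact absurd (by rw [← hab, one_mul]) h3
    · exact absurd (by rw [← hab, mul_one]) h2
    · exact hab.symm
  have h5 : Nat.card H = s * r := Nat.dvd_antisymm (hX H hH.1) (h4 ▸ hKH)
  have hrπ : r ∈ π := hK r hr (h4 ▸ dvd_mul_left r s)
  have hsπ : s ∈ π := hK s hs (h4 ▸ dvd_mul_right s r)
  obtain ⟨R₁, S₁, a1, a2, a3, a4, a5⟩ := exists_norm hs hr hsr h4
  obtain ⟨R₂, S₂, b1, b2, b3, b4, b5⟩ := exists_norm hs hr hsr h5
  obtain ⟨g, hg⟩ := conj_prime hr (hsq r hr hrπ) a1 b1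
  -- `H' := H ^ g`
  have c5 : MulAut.conj g • H ≤ normalizer (R₁ : Set X) := by
    rw [hg]
    intro y hy
    rw [Subgroup.mem_smul_pointwise_iff_exists] at hy
    obtain ⟨h, hh, rfl⟩ := hy
    have hn := mem_normalizer_iff.1 (b5 hh)
    rw [mem_normalizer_iff]
    intro w
    have e0 : ∀ v : X, v ∈ MulAut.conj g • R₂ ↔ g⁻¹ * v * g ∈ R₂ := by
      intro v
      rw [Subgroup.mem_pointwise_smul_iff_inv_smul_mem]
      simp
    rw [e0, e0, hn]
    have e : h * (g⁻¹ * w * g) * h⁻¹ = g⁻¹ * (MulAut.conj g • h * w * (MulAut.conj g • h)⁻¹) * g := by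
      simp only [MulAut.smul_def, MulAut.conj_apply]
      group
    rw [e]
  set H' : Subgroup X := MulAut.conj g • H with hH'
  set S' : Subgroup X := MulAut.conj g • S₂ with hS'
  have c2 : Nat.card S' = s := by rw [hS', smul_card, b2]
  have c4 : S' ≤ H' := pointwise_smul_le_pointwise_smul_iff.2 b4
  have c3 : R₁ ≤ H' := by
    rw [hg]
    exact pointwise_smul_le_pointwise_smul_iff.2 b3
  have c1 : Nat.card H' = s * r := by rw [hH', smul_card, h5]
  -- Sylow `s`-subgroups of the normalizer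
  let N : Subgroup X := normalizer (R₁ : Set X)
  have d0 : ¬ s ^ 2 ∣ Nat.card N := fun h => hsq s hs hsπ (h.trans (card_subgroup_dvd_card N))
  have d1 : Nat.card (S₁.subgroupOf N) = s := by
    rw [← card_map_of_injective N.subtype_injective, subgroupOf_map_subtype, inf_eq_left.2 (a4.trans a5), a2]
  have d2 : Nat.card (S'.subgroupOf N) = s := by
    rw [← card_map_of_injective N.subtype_injective, subgroupOf_map_subtype, inf_eq_left.2 (c4.trans c5), c2]
  obtain ⟨n, hn⟩ := conj_prime hs d0 d1 d2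
  have d3 : S₁ = MulAut.conj (n : X) • S' := by
    have e1 : (S₁.subgroupOf N).map N.subtype = (MulAut.conj n • S'.subgroupOf N).map N.subtype :=
      congrArg (fun T : Subgroup N => T.map N.subtype) hn
    rw [subgroupOf_map_subtype, inf_eq_left.2 (a4.trans a5), ← conj_eq, Subgroup.map_map] at e1
    rw [e1, ← conj_eq]
    have e2 : N.subtype.comp (MulAut.conj n).toMonoidHom = ((MulAut.conj (n : X)).toMonoidHom).comp N.subtype := by
      ext v
      rfl
    rw [e2, ← Subgroup.map_map, subgroupOf_map_subtype, inf_eq_left.2 (c4.trans c5)]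
  have d4 : MulAut.conj (n : X) • R₁ = R₁ := by
    ext v
    rw [Subgroup.mem_pointwise_smul_iff_inv_smul_mem]
    have e3 := mem_normalizer_iff.1 (inv_mem n.2) v
    rw [e3]
    have e4 : (MulAut.conj (n : X))⁻¹ • v = (n : X)⁻¹ * v * (n : X)⁻¹⁻¹ := by simp
    rw [e4]
  refine ⟨n * g, ?_⟩
  rw [map_mul, mul_smul, ← hH', eq_sup hs hr hsr.ne h4 a1 a2 a3 a4, eq_sup hs hr hsr.ne c1 a1 c2 c3 c4,
    smul_sup, d4, ← d3]

theorem dom_of_card {s r m : ℕ} (hs : s.Prime) (hr : r.Prime) (hsr : s < r) (hn : Nat.card X = s * r * m)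
    (hm : ∀ l : ℕ, l.Prime → l ∈ π → ¬ l ∣ m) (hE : ∃ H : Subgroup X, IsPiHall π H) : Dom π X := by
  obtain ⟨H, hH⟩ := hE
  refine dom_two hs hr hsr (fun K hK => ?_) hH
  have h1 : Nat.card K ∣ s * r * m := hn ▸ card_subgroup_dvd_card K
  exact (hK.coprime fun l hl hlπ => hm l hl hlπ).dvd_of_dvd_mul_right h1

theorem dom_of_two {s r m : ℕ} (hs : s.Prime) (hr : r.Prime) (hsr : s < r) (hn : Nat.card X = s * r * m)
    (hsm : ¬ s ∣ m) (hrm : ¬ r ∣ m) (h : Two π s r X) (hE : ∃ H : Subgroup X, IsPiHall π H) : Dom π X := by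
  refine dom_of_card hs hr hsr hn (fun l hl hlπ hd => ?_) hE
  rcases h l hlπ hl (hn ▸ hd.trans (dvd_mul_left m _)) with rfl | rfl
  · exact hsm hd
  · exact hrm hd

theorem card_psl {n c : ℕ} (hn : 2 ≤ n) (hc : ∏ i : Fin n, ((2 : ℕ) ^ n - 2 ^ (i : ℕ)) = c) :
    Nat.card (Matrix.ProjectiveSpecialLinearGroup (Fin n) (ZMod 2)) = c := by
  have h := S0243.result (F := ZMod 2) (q := 2) (ZMod.card 2) n hn
  rw [hc] at h
  rw [← h]
  have e : Nat.gcd n (2 - 1) = 1 := Nat.gcd_one_right n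
  rw [e, one_mul]
  exact (one_mul _).symm

theorem card_psl_three : Nat.card (Matrix.ProjectiveSpecialLinearGroup (Fin 3) (ZMod 2)) = 168 := by
  apply card_psl (by norm_num)
  rw [Fin.prod_univ_three]
  rfl

theorem card_psl_five : Nat.card (Matrix.ProjectiveSpecialLinearGroup (Fin 5) (ZMod 2)) = 9999360 := by
  apply card_psl (by norm_num)
  rw [Fin.prod_univ_five]
  rfl

/-- **[DS]** -/
theorem dom_small (h2 : 2 ∉ π) (hE : ∃ H : Subgroup X, IsPiHall π H)
    (h : Nonempty (X ≃* Matrix.ProjectiveSpecialLinearGroup (Fin 3) (ZMod 2)) ∨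
      (Nonempty (X ≃* Matrix.ProjectiveSpecialLinearGroup (Fin 5) (ZMod 2)) ∧ Two π 5 31 X) ∨
      (Spor.IsoM11 X ∧ Two π 5 11 X) ∨ (Spor.IsoM23 X ∧ Two π 11 23 X)) :
    Dom π X := by
  rcases h with ⟨⟨e⟩⟩ | ⟨⟨e⟩, h⟩ | ⟨⟨e⟩, h⟩ | ⟨⟨e⟩, h⟩
  · have hc : Nat.card X = 3 * 7 * 8 := by rw [Nat.card_congr e.toEquiv, card_psl_three]
    refine dom_of_card (by norm_num) (by norm_num) (by norm_num) hc (fun l hl hlπ hd => ?_) hE
    have h3 : l = 2 := (Nat.prime_dvd_prime_iff_eq hl Nat.prime_two).1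
      (hl.dvd_of_dvd_pow (show l ∣ 2 ^ 3 by norm_num; exact hd))
    exact h2 (h3 ▸ hlπ)
  · have hc : Nat.card X = 5 * 31 * 64512 := by rw [Nat.card_congr e.toEquiv, card_psl_five]
    exact dom_of_two (by norm_num) (by norm_num) (by norm_num) hc (by norm_num) (by norm_num) h hE
  · have hc : Nat.card X = 5 * 11 * 144 := by rw [Nat.card_congr e.toEquiv, Cit.TypeDet.card_M11']
    exact dom_of_two (by norm_num) (by norm_num) (by norm_num) hc (by norm_num) (by norm_num) h hE
  · have hc : Nat.card X = 11 * 23 * 40320 := by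
      rw [Nat.card_congr e.toEquiv, SporadicA.MathieuRecog.card_M23]
    exact dom_of_two (by norm_num) (by norm_num) (by norm_num) hc (by norm_num) (by norm_num) h hE

end Cfsg.Agent.H191.DPi
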